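import Mathlib

/-! Pulling apart a punctual ideal of the affine plane (S11453). -/

set_option autoImplicit false
universe u
open scoped Polynomial
open Polynomial

namespace Groth.Agent.PullApart

variable {k : Type u} [Field k]

lemma C_X_dvd_of_ev {s : k[X][X]} (h : mapRingHom (evalRingHom (0 : k)) s = 0) :
    C X ∣ s := by
  rw [C_dvd_iff_dvd_coeff]
  intro i
  rw [X_dvd_iff, coeff_zero_eq_eval_zero]
  have := congrArg (fun q : k[X] => q.coeff i) h
  simpa [coeff_map] using this

lemma ev_surj (w : k[X]) :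
    mapRingHom (evalRingHom (0 : k)) (mapRingHom (C : k →+* k[X]) w) = w := by
  have : (evalRingHom (0 : k)).comp (C : k →+* k[X]) = RingHom.id k := by
    ext a; simp
  rw [coe_mapRingHom, coe_mapRingHom, Polynomial.map_map, this, Polynomial.map_id]

theorem exists_monic (𝔞 : Ideal k[X][X]) {N : ℕ} (hxN : (C X : k[X][X]) ^ N ∈ 𝔞)
    (hyN : (X : k[X][X]) ^ N ∈ 𝔞) :
    ∃ h ∈ 𝔞, h.Monic ∧ ∀ a ∈ 𝔞, ∃ c, C X ∣ a - c * h := by
  set ev := mapRingHom (evalRingHom (0 : k)) with hev
  set P : Ideal k[X] := 𝔞.map ev with hP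
  have hsurj : Function.Surjective ev := fun w => ⟨_, ev_surj w⟩
  have hPmem : ∀ w, w ∈ P → ∃ s ∈ 𝔞, ev s = w := fun w hw =>
    (Ideal.mem_map_iff_of_surjective ev hsurj).1 hw
  obtain ⟨g0, hg0⟩ := IsPrincipalIdealRing.principal P
  have hg0' : P = Ideal.span {g0} := hg0
  have hXN : (X : k[X]) ^ N ∈ P := by
    have := Ideal.mem_map_of_mem ev hyN
    rw [map_pow] at this
    simpa [hev] using this
  have hg0ne : g0 ≠ 0 := by
    intro h
    rw [hg0', h, Ideal.mem_span_singleton, zero_dvd_iff] at hXN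
    exact pow_ne_zero N X_ne_zero hXN
  set g := g0 * C g0.leadingCoeff⁻¹ with hg
  have hgm : g.Monic := monic_mul_leadingCoeff_inv hg0ne
  have hgP : g ∈ P := hg0' ▸ Ideal.mem_span_singleton.2 (dvd_mul_right _ _)
  have hgdvd : ∀ w ∈ P, g ∣ w := by
    intro w hw
    rw [hg0', Ideal.mem_span_singleton] at hw
    refine dvd_trans ?_ hw
    exact ⟨C g0.leadingCoeff, by
      rw [hg, mul_assoc, ← C_mul, inv_mul_cancel₀ (leadingCoeff_ne_zero.2 hg0ne)]; simp⟩
  set r := g.natDegree with hr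
  have claim : ∀ (n : ℕ) (a : k[X][X]), ∃ q ∈ degreeLT k[X] r, ∃ u ∈ 𝔞, ∃ v,
      a = q + u + (C X) ^ n * v := by
    intro n
    induction n with
    | zero => intro a; exact ⟨0, zero_mem _, 0, zero_mem _, a, by simp⟩
    | succ n ih =>
      intro a
      obtain ⟨q, hq, u, hu, v, hv⟩ := ih a
      set w := ev v %ₘ g with hw
      have hd : ev v - w ∈ P := by
        have := modByMonic_add_div (ev v) g
        have he : ev v - w = g * (ev v /ₘ g) := by
          linear_combination -this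
        rw [he]
        exact P.mul_mem_right _ hgP
      obtain ⟨s, hs, hsv⟩ := hPmem _ hd
      obtain ⟨v', hv'⟩ : C X ∣ v - mapRingHom C w - s := by
        apply C_X_dvd_of_ev
        rw [map_sub, map_sub, ← hev, hsv, hev, ev_surj]
        ring
      refine ⟨q + ((X : k[X]) ^ n) • mapRingHom C w, add_mem hq (Submodule.smul_mem _ _ ?_),
        u + (C X) ^ n * s, add_mem hu (𝔞.mul_mem_left _ hs), v', ?_⟩
      · rw [mem_degreeLT]
        refine lt_of_le_of_lt (degree_map_le) ?_
        rw [hr, ← degree_eq_natDegree hgm.ne_zero]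
        exact degree_modByMonic_lt _ hgm
      · rw [hv, smul_eq_C_mul, map_pow, pow_succ]
        linear_combination (C X) ^ n * hv'
  obtain ⟨q, hq, u, hu, v, hv⟩ := claim N ((X : k[X][X]) ^ r)
  set h : k[X][X] := X ^ r - q with hh
  have hqd : q.degree < (r : WithBot ℕ) := mem_degreeLT.1 hq
  have hm : h.Monic := (monic_X_pow r).sub_of_left (by rw [degree_X_pow]; exact hqd)
  have hdeg : h.natDegree = r := by
    apply natDegree_eq_of_degree_eq_some
    rw [hh, degree_sub_eq_left_of_degree_lt (by rw [degree_X_pow]; exact hqd), degree_X_pow]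
  have hmem : h ∈ 𝔞 := by
    have : h = u + (C X) ^ N * v := by rw [hh, hv]; ring
    rw [this]
    exact add_mem hu (𝔞.mul_mem_right _ hxN)
  have hevh : ev h = g := by
    refine eq_of_monic_of_dvd_of_natDegree_le hgm (hm.map _)
      (hgdvd _ (Ideal.mem_map_of_mem ev hmem)) ?_
    rw [hev, coe_mapRingHom, hm.natDegree_map, hdeg]
  refine ⟨h, hmem, hm, fun a ha => ?_⟩
  obtain ⟨c0, hc0⟩ := hgdvd _ (Ideal.mem_map_of_mem ev ha)
  refine ⟨mapRingHom C c0, C_X_dvd_of_ev ?_⟩
  rw [map_sub, map_mul, ← hev, hc0, hevh, hev, ev_surj]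
  ring

local notation "𝔸" => MvPolynomial (Fin 2) k

lemma sub_C_eval_mem (p : Fin 2 → k) (f : MvPolynomial (Fin 2) k) :
    f - MvPolynomial.C (MvPolynomial.eval p f) ∈
      Ideal.span (Set.range (fun i : Fin 2 => MvPolynomial.X i - MvPolynomial.C (p i))) := by
  induction f using MvPolynomial.induction_on with
  | C a => simp
  | add f g hf hg =>
    have := add_mem hf hg
    simp only [map_add]
    convert this using 1
    ring
  | mul_X f l hf =>
    set I := Ideal.span (Set.range (fun i : Fin 2 => MvPolynomial.X i - MvPolynomial.C (p i)))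
    have h1 := I.mul_mem_right (MvPolynomial.X l : MvPolynomial (Fin 2) k) hf
    have h2 : (MvPolynomial.C (MvPolynomial.eval p f) : MvPolynomial (Fin 2) k) *
        (MvPolynomial.X l - MvPolynomial.C (p l)) ∈ I :=
      I.mul_mem_left _ (Ideal.subset_span ⟨l, rfl⟩)
    have := add_mem h1 h2
    simp only [map_mul, MvPolynomial.eval_X]
    convert this using 1
    ring

lemma mem_span_of_eval {p : Fin 2 → k} {f : MvPolynomial (Fin 2) k}
    (h : MvPolynomial.eval p f = 0) :
    f ∈ Ideal.span (Set.range (fun i : Fin 2 => MvPolynomial.X i - MvPolynomial.C (p i))) := by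
  have := sub_C_eval_mem p f
  rwa [h, map_zero, sub_zero] at this

lemma range_zero_eq :
    Set.range (fun i : Fin 2 => MvPolynomial.X i - MvPolynomial.C ((0 : Fin 2 → k) i)) =
      ({MvPolynomial.X 0, MvPolynomial.X 1} : Set (MvPolynomial (Fin 2) k)) := by
  ext f
  simp only [Pi.zero_apply, map_zero, sub_zero, Set.mem_range, Fin.exists_fin_two,
    Set.mem_insert_iff, Set.mem_singleton_iff]
  tauto

theorem main [IsAlgClosed k] (𝔞 : Ideal (MvPolynomial (Fin 2) k))
    (hsupp : 𝔞.radical = Ideal.span {MvPolynomial.X 0, MvPolynomial.X 1})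
    (i j : Fin 2) (hij : i ≠ j) (hall : ∀ l, l = i ∨ l = j) (hi : MvPolynomial.X i ∉ 𝔞) :
    ∃ 𝔞' : Ideal (MvPolynomial (Fin 2) k)[X],
      RingHom.Flat (R := k[X]) (S := (MvPolynomial (Fin 2) k)[X] ⧸ 𝔞')
        ((Ideal.Quotient.mk 𝔞').comp (Polynomial.mapRingHom (algebraMap k (MvPolynomial (Fin 2) k)))) ∧
      RingHom.Finite (A := k[X]) (B := (MvPolynomial (Fin 2) k)[X] ⧸ 𝔞')
        ((Ideal.Quotient.mk 𝔞').comp (Polynomial.mapRingHom (algebraMap k (MvPolynomial (Fin 2) k)))) ∧
      Ideal.map (Polynomial.evalRingHom (0 : MvPolynomial (Fin 2) k)) 𝔞' = 𝔞 ∧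
      ∀ c : k, c ≠ 0 →
        Ideal.map (Polynomial.evalRingHom (MvPolynomial.C c)) 𝔞' ≤ Ideal.span {MvPolynomial.X 0, MvPolynomial.X 1} ∧
        ∃ p : Fin 2 → k, p ≠ 0 ∧
          Ideal.map (Polynomial.evalRingHom (MvPolynomial.C c)) 𝔞' ≤
            Ideal.span (Set.range (fun i : Fin 2 => MvPolynomial.X i - MvPolynomial.C (p i))) := by
  set x : 𝔸 := MvPolynomial.X i with hx
  set y : 𝔸 := MvPolynomial.X j with hy
  set m : Ideal 𝔸 := Ideal.span {MvPolynomial.X 0, MvPolynomial.X 1} with hm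
  have hXm : ∀ l, (MvPolynomial.X l : 𝔸) ∈ m := by
    intro l; rw [hm]; apply Ideal.subset_span
    fin_cases l <;> simp
  have hm0 : ∀ f : 𝔸, MvPolynomial.eval (0 : Fin 2 → k) f = 0 ↔ f ∈ m := by
    intro f
    constructor
    · intro h
      have := mem_span_of_eval h
      rwa [range_zero_eq] at this
    · intro h
      have : m ≤ RingHom.ker (MvPolynomial.eval (0 : Fin 2 → k)) := by
        rw [hm, Ideal.span_le]
        rintro f (rfl | rfl) <;> simp
      exact this h
  -- nilpotency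
  obtain ⟨Ni, hNi⟩ : ∃ n, x ^ n ∈ 𝔞 := by
    have : x ∈ 𝔞.radical := hsupp ▸ hXm i
    exact this
  obtain ⟨Nj, hNj⟩ : ∃ n, y ^ n ∈ 𝔞 := by
    have : y ∈ 𝔞.radical := hsupp ▸ hXm j
    exact this
  set N := Ni + Nj with hN
  have hxN : x ^ N ∈ 𝔞 := by rw [hN, pow_add]; exact 𝔞.mul_mem_right _ hNi
  have hyN : y ^ N ∈ 𝔞 := by rw [hN, pow_add]; exact 𝔞.mul_mem_left _ hNj
  -- the isomorphism with k[X][X]
  let f1 : k[X][X] →+* 𝔸 :=
    eval₂RingHom (Polynomial.aeval x : k[X] →ₐ[k] 𝔸).toRingHom y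
  let f2 : 𝔸 →+* k[X][X] :=
    MvPolynomial.eval₂Hom ((C : k[X] →+* k[X][X]).comp C)
      (fun l => if l = i then C X else X)
  have f2x : f2 x = C X := by simp [f2, hx]
  have f2y : f2 y = X := by simp [f2, hy, hij.symm]
  have f1Cp : ∀ p : k[X], f1 (C p) = Polynomial.aeval x p := by intro p; simp [f1]
  have f1X : f1 X = y := by simp [f1]
  have h21 : f2.comp f1 = RingHom.id _ := by
    apply Polynomial.ringHom_ext
    · intro p
      have : (f2.comp f1).comp C = (C : k[X] →+* k[X][X]) := by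
        apply Polynomial.ringHom_ext
        · intro a; simp [f1, f2]
        · simp only [RingHom.comp_apply]; rw [f1Cp, aeval_X, f2x]
      exact RingHom.congr_fun this p
    · simp only [RingHom.comp_apply]; rw [f1X, f2y]; rfl
  have h12 : f1.comp f2 = RingHom.id _ := by
    apply MvPolynomial.ringHom_ext
    · intro a; simp [f1, f2]
    · intro l
      rcases hall l with h | h <;> subst h
      · simp only [RingHom.comp_apply, ← hx]; rw [f2x, f1Cp, aeval_X]; rfl
      · simp only [RingHom.comp_apply, ← hy]; rw [f2y, f1X]; rfl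
  let e : k[X][X] ≃+* 𝔸 := RingEquiv.ofRingHom f1 f2 h12 h21
  have he : ∀ w, e w = f1 w := fun _ => rfl
  -- the monic element
  obtain ⟨hB, hhB, hmon, hdec⟩ := exists_monic (𝔞.comap f1) (N := N)
    (by rw [Ideal.mem_comap, map_pow, f1Cp, aeval_X]; exact hxN)
    (by rw [Ideal.mem_comap, map_pow, f1X]; exact hyN)
  set h : 𝔸 := f1 hB with hh
  have hha : h ∈ 𝔞 := hhB
  have h1ne : (1 : 𝔸) ∉ 𝔞 := fun h1 => hi (by
    have := 𝔞.mul_mem_left x h1; rwa [mul_one] at this)
  -- the colon ideal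
  let 𝔟 : Ideal 𝔸 := Submodule.comap (LinearMap.mul 𝔸 𝔸 x) 𝔞
  have hmemb : ∀ b : 𝔸, b ∈ 𝔟 ↔ x * b ∈ 𝔞 := fun b => Iff.rfl
  have hab : 𝔞 ≤ 𝔟 := fun a ha => (hmemb a).2 (𝔞.mul_mem_left x ha)
  have hb1 : (1 : 𝔸) ∉ 𝔟 := by rw [hmemb, mul_one]; exact hi
  have hbm : 𝔟 ≤ m := by
    intro b hb
    rw [← hm0]
    by_contra hc
    set cc := MvPolynomial.eval (0 : Fin 2 → k) b with hcc
    have h1 : b - MvPolynomial.C cc ∈ 𝔞.radical := by
      rw [hsupp, ← hm0]; simp [hcc]
    obtain ⟨M, hM⟩ := h1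
    have h2 : b ∣ (b - MvPolynomial.C cc) ^ M - (-MvPolynomial.C cc) ^ M := by
      have := sub_dvd_pow_sub_pow (b - MvPolynomial.C cc) (-MvPolynomial.C cc) M
      simpa using this
    have h3 : (-MvPolynomial.C cc : 𝔸) ^ M ∈ 𝔟 := by
      obtain ⟨t, ht⟩ := h2
      have : (-MvPolynomial.C cc : 𝔸) ^ M = (b - MvPolynomial.C cc) ^ M - b * t := by
        rw [← ht]; ring
      rw [this]
      exact sub_mem (hab hM) (𝔟.mul_mem_right _ hb)
    have hu : IsUnit ((-MvPolynomial.C cc : 𝔸) ^ M) :=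
      ((IsUnit.map _ (Ne.isUnit hc)).neg).pow M
    exact hb1 ((Ideal.eq_top_of_isUnit_mem _ h3 hu) ▸ Submodule.mem_top)
  have hdecA : ∀ a ∈ 𝔞, ∃ c b, b ∈ 𝔟 ∧ a = c * h + x * b := by
    intro a ha
    obtain ⟨c, v, hv⟩ := hdec (f2 a) (by
      rw [Ideal.mem_comap, ← RingHom.comp_apply, h12]; exact ha)
    have := congrArg f1 hv
    rw [map_sub, map_mul, map_mul, ← RingHom.comp_apply, h12, f1Cp, aeval_X, RingHom.id_apply,
      ← hh] at this
    refine ⟨f1 c, f1 v, ?_, by linear_combination this⟩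
    rw [hmemb, ← this]
    exact sub_mem ha (𝔞.mul_mem_left _ hha)
  have hdeg : hB.natDegree ≠ 0 := by
    intro h0
    have : hB = 1 := hmon.natDegree_eq_zero.1 h0
    rw [hh, this, map_one] at hha
    exact h1ne hha
  have hBne : hB ≠ 0 := hmon.ne_zero
  have hne : h ≠ 0 := by
    intro h0
    apply hBne
    apply e.injective
    rw [map_zero, he, ← hh, h0]
  -- the family
  let J : Ideal 𝔸[X] := Ideal.span {C x - X} * 𝔟.map C ⊔ Ideal.span {C h}
  have hJmap : ∀ a : 𝔸, Ideal.map (evalRingHom a) J =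
      Ideal.span {x - a} * 𝔟 ⊔ Ideal.span {h} := by
    intro a
    have hid : (evalRingHom a).comp (C : 𝔸 →+* 𝔸[X]) = RingHom.id 𝔸 := by ext w <;> simp
    rw [Ideal.map_sup, Ideal.map_mul, Ideal.map_span, Ideal.map_span, Set.image_singleton,
      Set.image_singleton, Ideal.map_map, hid, Ideal.map_id]
    simp
  have hmemJ : ∀ {b c : 𝔸[X]}, b ∈ 𝔟.map C → (C x - X) * b + c * C h ∈ J := fun {b c} hb =>
    Submodule.add_mem_sup (Ideal.mem_span_singleton_mul.2 ⟨b, hb, rfl⟩)
      (Ideal.mem_span_singleton'.2 ⟨c, rfl⟩)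
  have hJmem : ∀ {F : 𝔸[X]}, F ∈ J → ∃ b ∈ 𝔟.map (C : 𝔸 →+* 𝔸[X]), ∃ c,
      F = (C x - X) * b + c * C h := by
    intro F hF
    obtain ⟨u, hu, v, hv, rfl⟩ := Submodule.mem_sup.1 hF
    obtain ⟨b, hb, rfl⟩ := Ideal.mem_span_singleton_mul.1 hu
    obtain ⟨c, rfl⟩ := Ideal.mem_span_singleton'.1 hv
    exact ⟨b, hb, c, rfl⟩
  let ι : k[X] →+* 𝔸[X] := mapRingHom (algebraMap k 𝔸)
  have hφ : ∀ p : k[X], (ι p).eval x = f1 (C p) := by
    intro p
    rw [f1Cp, aeval_def, ← eval_map]; rfl
  have cancel : ∀ {H : 𝔸[X]}, (C x - X) * H ∈ J → H ∈ 𝔟.map (C : 𝔸 →+* 𝔸[X]) := by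
    intro H hH
    obtain ⟨b, hb, c, hc⟩ := hJmem hH
    have h0 := congrArg (eval x) hc
    simp only [eval_mul, eval_add, eval_sub, eval_C, eval_X, sub_self, zero_mul, zero_add] at h0
    have hroot : c.IsRoot x := (mul_eq_zero.1 h0.symm).resolve_right hne
    obtain ⟨c', hc'⟩ := dvd_iff_isRoot.2 hroot
    have : H = b + (-c') * C h := by
      apply mul_left_cancel₀ (neg_ne_zero.2 (X_sub_C_ne_zero x))
      rw [hc'] at hc
      linear_combination hc
    rw [this]
    exact add_mem hb (Ideal.mul_mem_left _ _ (Ideal.mem_map_of_mem _ (hab hha)))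
  have sat : ∀ (p : k[X]) (F : 𝔸[X]), p ≠ 0 → ι p * F ∈ J → F ∈ J := by
    intro p F hp hF
    obtain ⟨b, hb, c, hc⟩ := hJmem hF
    have h0 := congrArg (eval x) hc
    simp only [eval_mul, eval_add, eval_sub, eval_C, eval_X, sub_self, zero_mul, zero_add,
      hφ] at h0
    have h1 := congrArg f2 h0
    rw [map_mul, map_mul, hh, ← RingHom.comp_apply, h21, ← RingHom.comp_apply f2 f1 hB, h21,
      RingHom.id_apply, RingHom.id_apply] at h1
    have h2 : hB ∣ C p * f2 (F.eval x) := ⟨f2 (c.eval x), by rw [h1]; ring⟩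
    rw [← modByMonic_eq_zero_iff_dvd hmon, ← smul_eq_C_mul, smul_modByMonic, smul_eq_zero] at h2
    obtain ⟨c0, hc0⟩ := (modByMonic_eq_zero_iff_dvd hmon).1 (h2.resolve_left hp)
    have h3 : F.eval x = f1 c0 * h := by
      have := congrArg f1 hc0
      rw [← RingHom.comp_apply, h12, RingHom.id_apply, map_mul, ← hh] at this
      rw [this]; ring
    have hroot : (F - C (f1 c0) * C h).IsRoot x := by simp [h3]
    obtain ⟨G, hG⟩ := dvd_iff_isRoot.2 hroot
    have h4 : (C x - X) * (ι p * -G) ∈ J := by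
      have : (C x - X) * (ι p * -G) = ι p * F - (ι p * C (f1 c0)) * C h := by
        linear_combination (-(ι p)) * hG
      rw [this]
      exact sub_mem hF (Submodule.mem_sup_right (Ideal.mem_span_singleton'.2 ⟨_, rfl⟩))
    have h5 := cancel h4
    have h6 : -G ∈ 𝔟.map (C : 𝔸 →+* 𝔸[X]) := by
      rw [← Ideal.mk_ker (I := 𝔟), ← Polynomial.ker_mapRingHom, RingHom.mem_ker] at h5 ⊢
      rw [map_mul] at h5
      refine (isUnit_leadingCoeff_mul_right_eq_zero_iff ?_).1 h5
      have hinj : (mapRingHom (Ideal.Quotient.mk 𝔟)) (ι p) =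
          p.map ((Ideal.Quotient.mk 𝔟).comp (algebraMap k 𝔸)) := by
        simp only [ι, coe_mapRingHom, Polynomial.map_map]
      rw [hinj]
      have hu : IsUnit (((Ideal.Quotient.mk 𝔟).comp (algebraMap k 𝔸)) p.leadingCoeff) :=
        (Ne.isUnit (leadingCoeff_ne_zero.2 hp)).map _
      have hnt : Nontrivial (𝔸 ⧸ 𝔟) := Ideal.Quotient.nontrivial_iff.2
        (fun ht => hb1 (ht ▸ Submodule.mem_top))
      rwa [leadingCoeff_map_of_leadingCoeff_ne_zero _ hu.ne_zero]
    have hF' : F = (C x - X) * (-G) + C (f1 c0) * C h := by linear_combination hG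
    rw [hF']
    exact hmemJ h6
  refine ⟨J, ?_⟩
  have hfin : RingHom.Finite (A := k[X]) (B := 𝔸[X] ⧸ J) ((Ideal.Quotient.mk J).comp ι) := by
    let alg : Algebra k[X] (𝔸[X] ⧸ J) :=
      RingHom.toAlgebra (R := k[X]) (S := 𝔸[X] ⧸ J) ((Ideal.Quotient.mk J).comp ι)
    set q := Ideal.Quotient.mk J
    have halg : ∀ p : k[X], algebraMap k[X] (𝔸[X] ⧸ J) p = q (ι p) := fun p => rfl
    set R0 := Algebra.adjoin k[X] ({q (C x), q (C y)} : Set (𝔸[X] ⧸ J)) with hR0
    have hax : IsIntegral k[X] (q (C x)) := by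
      refine ⟨(X - C X) * X ^ N, (monic_X_sub_C _).mul (monic_X_pow N), ?_⟩
      change eval₂RingHom (algebraMap k[X] (𝔸[X] ⧸ J)) (q (C x)) _ = 0
      rw [map_mul, map_sub, map_pow]
      simp only [coe_eval₂RingHom, eval₂_X, eval₂_C]
      show (q (C x) - q (ι X)) * q (C x) ^ N = 0
      rw [← map_sub, ← map_pow, ← map_mul, Ideal.Quotient.eq_zero_iff_mem]
      have hX : ι X = X := by simp [ι]
      rw [hX, ← C_pow]
      have := hmemJ (c := 0) (Ideal.mem_map_of_mem C (hab hxN))
      simpa using this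
    have hay : IsIntegral k[X] (q (C y)) := by
      set S := integralClosure k[X] (𝔸[X] ⧸ J)
      let ψ : k[X] →+* (𝔸[X] ⧸ J) :=
        eval₂RingHom ((algebraMap k[X] (𝔸[X] ⧸ J)).comp C) (q (C x))
      have hψ : ψ = (q.comp C).comp (Polynomial.aeval x : k[X] →ₐ[k] 𝔸).toRingHom := by
        apply Polynomial.ringHom_ext
        · intro a
          simp [ψ, halg, ι]
        · simp [ψ]
      have hψS : ∀ p, ψ p ∈ S := by
        intro p
        induction p using Polynomial.induction_on' with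
        | add a b ha hb => rw [map_add]; exact add_mem ha hb
        | monomial n a =>
          simp only [ψ, coe_eval₂RingHom, eval₂_monomial, RingHom.comp_apply]
          exact mul_mem (S.algebraMap_mem _) (pow_mem hax n)
      let ψ' : k[X] →+* S := ψ.codRestrict S hψS
      have hy' : IsIntegral S (q (C y)) := by
        refine ⟨hB.map ψ', hmon.map ψ', ?_⟩
        rw [eval₂_map]
        have : (algebraMap S (𝔸[X] ⧸ J)).comp ψ' = ψ := by ext p <;> rfl
        rw [this, hψ]
        have e1 := hom_eval₂ hB (Polynomial.aeval x : k[X] →ₐ[k] 𝔸).toRingHom (q.comp C) y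
        show eval₂ ((q.comp C).comp _) ((q.comp C) y) hB = 0
        rw [← e1]
        show q (C (f1 hB)) = 0
        rw [Ideal.Quotient.eq_zero_iff_mem]
        exact Submodule.mem_sup_right (Ideal.mem_span_singleton_self _)
      exact isIntegral_trans _ hy'
    have htop : R0 = ⊤ := by
      rw [eq_top_iff]
      rintro z -
      obtain ⟨F, rfl⟩ := Ideal.Quotient.mk_surjective z
      have hC : ∀ a : 𝔸, q (C a) ∈ R0 := by
        intro a
        induction a using MvPolynomial.induction_on with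
        | C a =>
          have : q (C (MvPolynomial.C a)) = algebraMap k[X] (𝔸[X] ⧸ J) (C a) := by
            simp [halg, ι]
          rw [this]; exact R0.algebraMap_mem _
        | add a b ha hb => rw [map_add, map_add]; exact add_mem ha hb
        | mul_X a l ha =>
          rw [map_mul, map_mul]
          refine mul_mem ha ?_
          rcases hall l with h | h <;> subst h <;> apply Algebra.subset_adjoin <;> simp [hx, hy]
      induction F using Polynomial.induction_on' with
      | add a b ha hb => rw [map_add]; exact add_mem ha hb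
      | monomial n a =>
        rw [← C_mul_X_pow_eq_monomial, map_mul, map_pow]
        refine mul_mem (hC a) (pow_mem ?_ n)
        have : q X = algebraMap k[X] (𝔸[X] ⧸ J) X := by simp [halg, ι]
        rw [this]; exact R0.algebraMap_mem _
    show Module.Finite k[X] (𝔸[X] ⧸ J)
    refine ⟨?_⟩
    have hfg := fg_adjoin_of_finite (R := k[X]) (Set.toFinite ({q (C x), q (C y)} : Set (𝔸[X] ⧸ J)))
      (by rintro z (rfl | rfl); exacts [hax, hay])
    rw [← hR0, htop, Algebra.top_toSubmodule] at hfg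
    exact hfg
  refine ⟨?_, hfin, ?_, ?_⟩
  · let alg : Algebra k[X] (𝔸[X] ⧸ J) :=
      RingHom.toAlgebra (R := k[X]) (S := 𝔸[X] ⧸ J) ((Ideal.Quotient.mk J).comp ι)
    have : Module.IsTorsionFree k[X] (𝔸[X] ⧸ J) := by
      refine Module.IsTorsionFree.of_smul_eq_zero (fun p z hz => ?_)
      by_cases hp : p = 0
      · exact Or.inl hp
      · right
        obtain ⟨F, rfl⟩ := Ideal.Quotient.mk_surjective z
        rw [Algebra.smul_def] at hz
        change Ideal.Quotient.mk J (ι p) * Ideal.Quotient.mk J F = 0 at hz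
        rw [← map_mul, Ideal.Quotient.eq_zero_iff_mem] at hz
        exact Ideal.Quotient.eq_zero_iff_mem.2 (sat p F hp hz)
    show Module.Flat k[X] (𝔸[X] ⧸ J)
    infer_instance
  · rw [hJmap, sub_zero]
    refine le_antisymm (sup_le ?_ ?_) ?_
    · intro a ha
      obtain ⟨b, hb, rfl⟩ := Ideal.mem_span_singleton_mul.1 ha
      exact hb
    · rwa [Ideal.span_singleton_le_iff_mem]
    · intro a ha
      obtain ⟨c, b, hb, rfl⟩ := hdecA a ha
      rw [add_comm]
      exact Submodule.add_mem_sup (Ideal.mem_span_singleton_mul.2 ⟨b, hb, rfl⟩)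
        (Ideal.mem_span_singleton'.2 ⟨c, rfl⟩)
  · intro c hc
    rw [hJmap]
    have hhm : h ∈ m := hsupp ▸ Ideal.le_radical hha
    refine ⟨sup_le (Ideal.mul_le_right.trans hbm) (by rwa [Ideal.span_singleton_le_iff_mem]), ?_⟩
    have hd1 : (hB.map (evalRingHom c)).degree ≠ 0 := by
      rw [hmon.degree_map, degree_eq_natDegree hBne]
      exact_mod_cast hdeg
    obtain ⟨z, hz⟩ := IsAlgClosed.exists_root _ hd1
    refine ⟨fun l => if l = i then c else z, fun h0 => hc ?_, sup_le ?_ ?_⟩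
    · simpa using congrFun h0 i
    · refine Ideal.mul_le_left.trans ?_
      rw [Ideal.span_singleton_le_iff_mem]
      refine mem_span_of_eval ?_
      simp [hx]
    · rw [Ideal.span_singleton_le_iff_mem]
      refine mem_span_of_eval ?_
      have : (MvPolynomial.eval fun l => if l = i then c else z).comp f1 =
          (evalRingHom z).comp (mapRingHom (evalRingHom c)) := by
        apply Polynomial.ringHom_ext
        · intro p
          simp only [RingHom.comp_apply, coe_mapRingHom, map_C, coe_evalRingHom, eval_C]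
          rw [f1Cp]
          induction p using Polynomial.induction_on' with
          | add a b ha hb => rw [map_add, map_add, eval_add, ha, hb]
          | monomial n a => simp [hx, aeval_monomial]
        · simp only [RingHom.comp_apply, coe_mapRingHom, map_X, coe_evalRingHom, eval_X]
          rw [f1X]; simp [hy, hij.symm]
      have := RingHom.congr_fun this hB
      rw [RingHom.comp_apply, ← hh] at this
      rw [this]
      exact hz

end Groth.Agent.PullApart
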